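import Groth.Agent.L25.Observable.UnipFixed
import Groth.Agent.L25.Observable.Semi
import Groth.Agent.L25.Observable.AlgAction
import Groth.Agent.L25.Observable.Consequences

/-!
# Eigenvectors of rational modules
-/

set_option autoImplicit false
set_option backward.isDefEq.respectTransparency.types false
set_option maxHeartbeats 1000000
set_option linter.unusedSectionVars false

universe u

open CategoryTheory CategoryTheory.Limits MonoidalCategory CartesianMonoidalCategory MonObj GrpObj AlgebraicGeometry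
open scoped TensorProduct
open Groth.L25.Observable

noncomputable section

namespace Groth.L16.FracEigen

variable {k : Type u} [Field k] [IsAlgClosed k] {G H : Over (Spec (CommRingCat.of k))} [GrpObj G] [GrpObj H]
  [IsAffine H.left] [Smooth H.hom] {V : Type u} [AddCommGroup V] [Module k V] (ρ : VecGrp.GMod G V) (i : H ⟶ G)

/-- an eigenvector on rational points is an eigenvector on all points -/
theorem eigen_of_pts (v : V) (F : Γ(H.left, ⊤))
    (hv : ∀ γ : VecGrp.pt k k ⟶ H, ptAct ρ (γ ≫ i) v = val γ F • v)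
    (B : Type u) [CommRing B] [Algebra k B] (h : VecGrp.pt k B ⟶ H) :
    ρ.ρ B (h ≫ i) ((1 : B) ⊗ₜ[k] v) = val h F • ((1 : B) ⊗ₜ[k] v) := by
  obtain ⟨alg, gen, _, hgen, hfac⟩ := exists_gen H
  letI := alg
  have h0 : ρ.ρ _ (gen ≫ i) ((1 : Γ(H.left, ⊤)) ⊗ₜ[k] v) = val gen F • ((1 : Γ(H.left, ⊤)) ⊗ₜ[k] v) := by
    let b := Module.Free.chooseBasis k V
    refine (b.baseChange Γ(H.left, ⊤)).repr.injective (Finsupp.ext fun j => hgen _ _ ?_)
    congr 1
    refine eq_of_forall_val fun γ => ?_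
    obtain ⟨φ, hφ, hval⟩ := hfac k γ
    rw [← hval, ← hval]
    have key : ∀ z : Γ(H.left, ⊤) ⊗[k] V, φ ((b.baseChange Γ(H.left, ⊤)).repr z j) =
        (b.baseChange k).repr (VecGrp.Wmap φ z) j := by
      intro z
      induction z using TensorProduct.induction_on with
      | zero => simp
      | add x y hx hy => simp only [map_add, Finsupp.add_apply, hx, hy]
      | tmul c w => simp [VecGrp.Wmap]
    rw [key, key, ρ.naturality, VecGrp.Wmap_smul, ← val_ptMap, ← Category.assoc, hφ,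
      show VecGrp.Wmap φ ((1 : Γ(H.left, ⊤)) ⊗ₜ[k] v) = (1 : k) ⊗ₜ[k] v by simp [VecGrp.Wmap], ptAct_spec, hv γ,
      TensorProduct.tmul_smul]
  obtain ⟨φ, hφ, -⟩ := hfac B h
  have h1 := congrArg (VecGrp.Wmap φ) h0
  rw [ρ.naturality, VecGrp.Wmap_smul, ← val_ptMap, ← Category.assoc, hφ,
    show VecGrp.Wmap φ ((1 : Γ(H.left, ⊤)) ⊗ₜ[k] v) = (1 : B) ⊗ₜ[k] v by simp [VecGrp.Wmap]] at h1
  exact h1

/-- the orbit of a vector spans a finite-dimensional space -/
theorem exists_finite_orbit (v : V) :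
    ∃ C : Submodule k V, Module.Finite k C ∧ ∀ γ : VecGrp.pt k k ⟶ H, ptAct ρ (γ ≫ i) v ∈ C := by
  classical
  obtain ⟨alg, gen, _, -, hfac⟩ := exists_gen H
  letI := alg
  obtain ⟨S, hS⟩ := TensorProduct.exists_finset (ρ.ρ _ (gen ≫ i) ((1 : Γ(H.left, ⊤)) ⊗ₜ[k] v))
  refine ⟨Submodule.span k ↑(S.image Prod.snd), FiniteDimensional.span_finset k _, fun γ => ?_⟩
  obtain ⟨φ, hφ, -⟩ := hfac k γ
  have h1 := congrArg (VecGrp.Wmap φ) hS
  rw [ρ.naturality, ← Category.assoc, hφ,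
    show VecGrp.Wmap φ ((1 : Γ(H.left, ⊤)) ⊗ₜ[k] v) = (1 : k) ⊗ₜ[k] v by simp [VecGrp.Wmap], ptAct_spec, map_sum] at h1
  have h2 := congrArg (TensorProduct.lid k V) h1
  rw [TensorProduct.lid_tmul, one_smul, map_sum] at h2
  rw [h2]
  refine sum_mem fun p hp => ?_
  rw [show VecGrp.Wmap φ (p.1 ⊗ₜ[k] p.2) = φ p.1 ⊗ₜ[k] p.2 by simp [VecGrp.Wmap], TensorProduct.lid_tmul]
  exact Submodule.smul_mem _ _ (Submodule.subset_span (Finset.mem_image_of_mem _ hp))

/-- a commutative group has an eigenvector in every stable nonzero subspace -/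
theorem exists_eigen_of_comm [IsMonHom i] (hcomm : ∀ a b : VecGrp.pt k k ⟶ H, a * b = b * a) (W : Submodule k V)
    (hW : ∀ γ : VecGrp.pt k k ⟶ H, ∀ w ∈ W, ptAct ρ (γ ≫ i) w ∈ W) (hne : W ≠ ⊥) :
    ∃ v ∈ W, v ≠ 0 ∧ ∃ θ : H ⟶ Red.Gm (Spec (CommRingCat.of k)), IsMonHom θ ∧
      ∀ γ : VecGrp.pt k k ⟶ H, ptAct ρ (γ ≫ i) v = VecGrp.chiVal θ γ • v := by
  classical
  obtain ⟨w, hw, hw0⟩ := Submodule.exists_mem_ne_zero_of_ne_bot hne
  let P : Submodule k V → Prop := fun C => C ≤ W ∧ C ≠ ⊥ ∧ Module.Finite k C ∧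
    ∀ γ : VecGrp.pt k k ⟶ H, ∀ x ∈ C, ptAct ρ (γ ≫ i) x ∈ C
  have hone : ptAct ρ ((1 : VecGrp.pt k k ⟶ H) ≫ i) w = w := by rw [MonObj.one_comp, ptAct_one]
  have hP : ∃ C, P C := by
    obtain ⟨C₀, hC₀, hC₀m⟩ := exists_finite_orbit ρ i w
    refine ⟨Submodule.span k (Set.range fun γ : VecGrp.pt k k ⟶ H => ptAct ρ (γ ≫ i) w),
      Submodule.span_le.2 ?_, fun h => hw0 ((Submodule.mem_bot k).1 (h ▸ Submodule.subset_span ⟨1, hone⟩)), ?_, ?_⟩
    · rintro _ ⟨γ, rfl⟩; exact hW γ w hw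
    · exact Submodule.finiteDimensional_of_le (Submodule.span_le.2 (by rintro _ ⟨γ, rfl⟩; exact hC₀m γ))
    · intro γ x hx
      induction hx using Submodule.span_induction with
      | mem _ hx =>
        obtain ⟨γ', rfl⟩ := hx
        exact Submodule.subset_span ⟨γ * γ', by rw [← ptAct_mul, ← MonObj.mul_comp]⟩
      | zero => rw [map_zero]; exact zero_mem _
      | add x y _ _ hx hy => rw [map_add]; exact add_mem hx hy
      | smul c x _ hx => rw [map_smul]; exact Submodule.smul_mem _ c hx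
  have hP' : ∃ n, ∃ C, P C ∧ Module.finrank k C = n := ⟨_, hP.choose, hP.choose_spec, rfl⟩
  obtain ⟨C, ⟨hCW, hC0, hCf, hCst⟩, hCn⟩ := Nat.find_spec hP'
  have hscal : ∀ γ : VecGrp.pt k k ⟶ H, ∃ c : k, ∀ x ∈ C, ptAct ρ (γ ≫ i) x = c • x := by
    intro γ
    let g := (ptAct ρ (γ ≫ i)).restrict (hCst γ)
    haveI : Nontrivial C := Submodule.nontrivial_iff_ne_bot.2 hC0
    obtain ⟨c, hc⟩ := Module.End.exists_eigenvalue g
    let C' : Submodule k V := (Module.End.eigenspace g c).map C.subtype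
    have hC'le : C' ≤ C := Submodule.map_subtype_le _ _
    haveI : Module.Finite k C' := Submodule.finiteDimensional_of_le hC'le
    have hC' : P C' := by
      refine ⟨hC'le.trans hCW, ?_, inferInstance, ?_⟩
      · intro h
        obtain ⟨x, hx⟩ := hc.exists_hasEigenvector
        exact hx.2 (Subtype.ext ((Submodule.mem_bot k).1 (h ▸ Submodule.mem_map_of_mem hx.1)))
      · rintro γ' _ ⟨x, hx, rfl⟩
        refine ⟨⟨_, hCst γ' x.1 x.2⟩, Module.End.mem_eigenspace_iff.2 (Subtype.ext ?_), rfl⟩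
        have hx' := congrArg Subtype.val (Module.End.mem_eigenspace_iff.1 hx)
        simp only [g, LinearMap.coe_restrict_apply, Submodule.coe_smul] at hx' ⊢
        rw [← ptAct_mul, ← MonObj.mul_comp, hcomm, MonObj.mul_comp, ptAct_mul, hx', map_smul]
    have heq : C' = C := Submodule.eq_of_le_of_finrank_le hC'le (by
      rw [hCn]; exact Nat.find_le ⟨C', hC', rfl⟩)
    refine ⟨c, fun x hx => ?_⟩
    obtain ⟨y, hy, rfl⟩ := (show x ∈ C' from heq ▸ hx)
    exact congrArg Subtype.val (Module.End.mem_eigenspace_iff.1 hy)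
  obtain ⟨v, hv, hv0⟩ := Submodule.exists_mem_ne_zero_of_ne_bot hC0
  choose c hc using hscal
  obtain ⟨l, hl⟩ := LinearMap.exists_leftInverse_of_injective (LinearMap.toSpanSingleton k V v)
    (LinearMap.ker_eq_bot.2 (smul_left_injective k hv0))
  have hlv : l v = 1 := by simpa using LinearMap.congr_fun hl 1
  obtain ⟨alg, gen, _, -, hfac⟩ := exists_gen H
  letI := alg
  let F : Γ(H.left, ⊤) :=
    TensorProduct.rid k _ (l.lTensor Γ(H.left, ⊤) (ρ.ρ _ (gen ≫ i) ((1 : Γ(H.left, ⊤)) ⊗ₜ[k] v)))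
  have hF : ∀ γ : VecGrp.pt k k ⟶ H, val γ F = c γ := by
    intro γ
    obtain ⟨φ, hφ, hval⟩ := hfac k γ
    rw [← hval]
    have key : ∀ z : Γ(H.left, ⊤) ⊗[k] V, φ (TensorProduct.rid k _ (l.lTensor Γ(H.left, ⊤) z)) =
        TensorProduct.rid k k (l.lTensor k (VecGrp.Wmap φ z)) := by
      intro z
      induction z using TensorProduct.induction_on with
      | zero => simp
      | add x y hx hy => simp only [map_add, hx, hy]
      | tmul a w => simp [VecGrp.Wmap]
    refine (key _).trans ?_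
    rw [ρ.naturality, ← Category.assoc, hφ,
      show VecGrp.Wmap φ ((1 : Γ(H.left, ⊤)) ⊗ₜ[k] v) = (1 : k) ⊗ₜ[k] v by simp [VecGrp.Wmap], ptAct_spec,
      hc γ v hv]
    simp [hlv]
  obtain ⟨θ, hθ, hθv⟩ := exists_char_of_fun (H := H) F (by
      rw [hF]
      have e := hc 1 v hv
      rw [MonObj.one_comp, ptAct_one] at e
      exact (smul_left_injective k hv0 (by simpa using e.symm : c 1 • v = (1 : k) • v)))
    (fun z z' => by
      rw [hF, hF, hF]
      refine smul_left_injective k hv0 ?_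
      show c (z * z') • v = (c z * c z') • v
      rw [← hc (z * z') v hv, MonObj.mul_comp, ptAct_mul, hc z' v hv, map_smul, hc z v hv, smul_smul, mul_comm])
  exact ⟨v, hCW hv, hv0, θ, hθ, fun γ => by rw [hθv, hF, hc γ v hv]⟩

end Groth.L16.FracEigen
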